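import Cfsg.Agent.H202.T.Enum
import Cfsg.Agent.H160.QChar
import Cfsg.Prelude.Def_Classical
import Cfsg.Agent.Prune
set_option linter.all false

section
prune_inst 0x7fffe9f9fbbf7bffffff7e7ff7d9effe3b971fffacdff94bffea6bffbf7f339209cd77ad0de0b0fe4ef7c21410a8f843fb7eeeffea6fdc7ffffdfff41ffbee5ff5f7b50851958c340fbc6fff83f07f8e7f3fffffffffffffffffffffffffffbeffbfffffffff

-- part: H202/T/UpSp
section
prune_inst 0x2004000000000018000060001c4282000000000b00000000000804808c0000000621b03001000080004440380048110000000200000000000000011800800000000000000100200000000000000000000000000000000000000000000000000000000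
set_option linter.all false
open scoped Cfsg.Agent.FastGrp

/-!
# Block T: upper bounds for the element orders of `PSp₈(q)`, `q` odd (helper202)
-/

set_option autoImplicit false
set_option linter.unusedSectionVars false

namespace Cfsg.Agent.H202.T

open Module Polynomial
open Cfsg.Agent.H160.QRoots Cfsg.Agent.H160.QChar

section

variable {F V : Type*} [Field F] [AddCommGroup V] [Module F V] [FiniteDimensional F V]

open Classical in
/-- simple roots with the same `N`-th power -/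
theorem pow_eq_of_simple {g : V →ₗ[F] V} {N : ℕ} (hN : 0 < N) (a : F) (hcnt : ∀ x, (rts g).count x ≤ 1)
    (h : ∀ x ∈ rts g, x ^ N = algebraMap F (AlgebraicClosure F) a) : g ^ N = algebraMap F (Module.End F V) a := by
  have h1 : g.charpoly ∣ X ^ N - C a := by
    rw [← Polynomial.map_dvd_map' (algebraMap F (AlgebraicClosure F)), eq_prod, Polynomial.map_sub,
      Polynomial.map_pow, Polynomial.map_X, Polynomial.map_C]
    have hne : (X ^ N - C (algebraMap F (AlgebraicClosure F) a) : (AlgebraicClosure F)[X]) ≠ 0 :=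
      X_pow_sub_C_ne_zero hN _
    rw [Multiset.prod_X_sub_C_dvd_iff_le_roots hne, Multiset.le_iff_count]
    intro x
    by_cases hx : x ∈ rts g
    · refine (hcnt x).trans ?_
      rw [Multiset.one_le_count_iff_mem, mem_roots hne, IsRoot.def]
      simp [h x hx]
    · rw [Multiset.count_eq_zero_of_notMem hx]
      exact Nat.zero_le _
  obtain ⟨w, hw⟩ := h1
  have h2 := congrArg (aeval g) hw
  rw [map_mul, LinearMap.aeval_self_charpoly, zero_mul, map_sub, map_pow, aeval_X, aeval_C, sub_eq_zero] at h2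
  exact h2

end

section

open Matrix

variable {F : Type*} [Field F] {n : ℕ}

theorem charpoly_toLin (M : Matrix (Fin n ⊕ Fin n) (Fin n ⊕ Fin n) F) :
    (Matrix.toLin' M : (Fin n ⊕ Fin n → F) →ₗ[F] (Fin n ⊕ Fin n → F)).charpoly = M.charpoly := by
  rw [← LinearMap.charpoly_toMatrix (Matrix.toLin' M) (Pi.basisFun F _)]
  congr 1
  exact LinearMap.toMatrix'_toLin' M

open Classical in
theorem inv0_sp [Fintype F] (g : Matrix.symplecticGroup (Fin n) F) :
    Inv0 (Fintype.card F) (rts (Matrix.toLin' g.1 : (Fin n ⊕ Fin n → F) →ₗ[F] (Fin n ⊕ Fin n → F))) where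
  frob := count_frob _
  inv := by
    intro x
    let φ := algebraMap F (AlgebraicClosure F)
    set M := g.1ᵀ with hM
    have h1 : Mᵀ * J (Fin n) F * M = J (Fin n) F := by
      rw [hM, Matrix.transpose_transpose]
      exact SymplecticGroup.mem_iff.1 g.2
    have h2 : (M.map φ).charpoly = g.1.charpoly.map φ := by
      rw [Matrix.charpoly_map, hM, Matrix.charpoly_transpose]
    have h3 := roots_inv (M := M.map φ) (G := (J (Fin n) F).map φ) (by
        have h4 : ((J (Fin n) F).map φ).det = φ (J (Fin n) F).det := by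
          rw [RingHom.map_det]; rfl
        rw [h4]
        refine (map_ne_zero φ).2 (fun h0 => ?_)
        have h5 := J_det_mul_J_det (Fin n) F
        rw [h0, zero_mul] at h5
        exact zero_ne_one h5) (by
        have h5 := congrArg (fun A : Matrix _ _ F => A.map φ) h1
        simp only [Matrix.map_mul] at h5
        exact h5) (by rw [h2]; exact splits _)
    rw [h2] at h3
    have h4 : rts (Matrix.toLin' g.1 : (Fin n ⊕ Fin n → F) →ₗ[F] (Fin n ⊕ Fin n → F)) =
        (rts (Matrix.toLin' g.1 : (Fin n ⊕ Fin n → F) →ₗ[F] (Fin n ⊕ Fin n → F))).map (fun x => x⁻¹) := by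
      rw [rts, charpoly_toLin]
      exact h3
    conv_lhs => rw [h4]
    exact Multiset.count_map_eq_count' _ _ inv_injective _
  ne0 := by
    rintro x hx rfl
    rw [← map_zero (algebraMap F (AlgebraicClosure F)), mem_rts_iff] at hx
    obtain ⟨v, hv⟩ := hx.exists_hasEigenvector
    have h3 := hv.apply_eq_smul
    rw [zero_smul, Matrix.toLin'_apply] at h3
    apply hv.2
    have h4 : ((g⁻¹ * g : Matrix.symplecticGroup (Fin n) F)).1 *ᵥ v = 0 := by
      rw [Submonoid.coe_mul, ← Matrix.mulVec_mulVec, h3, Matrix.mulVec_zero]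
    rwa [inv_mul_cancel, Submonoid.coe_one, Matrix.one_mulVec] at h4

/-- order in the projective group from a scalar power -/
theorem orderOf_psp_dvd (g : Matrix.symplecticGroup (Fin n) F) {N : ℕ}
    (h : (g ^ N).1 = 1 ∨ (g ^ N).1 = -1) :
    orderOf (g : Cfsg.PSp n F) ∣ N := by
  apply orderOf_dvd_of_pow_eq_one
  rw [← QuotientGroup.mk_pow, QuotientGroup.eq_one_iff, Subgroup.mem_center_iff]
  intro x
  apply Subtype.ext
  rw [Submonoid.coe_mul, Submonoid.coe_mul]
  rcases h with h | h <;> rw [h]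
  · rw [mul_one, one_mul]
  · rw [mul_neg, neg_mul, mul_one, one_mul]

/-- **Element orders of `PSp₈(q)`.** -/
theorem up_sp [Fintype F] (hodd : Odd (Fintype.card F)) {p : ℕ} [hp : Fact p.Prime] [CharP F p] (x : Cfsg.PSp 4 F) :
    InL p (Fintype.card F) (orderOf x) := by
  classical
  obtain ⟨g, rfl⟩ := QuotientGroup.mk_surjective x
  have hp2 : p ≠ 2 := by
    rintro rfl
    obtain ⟨n, -, hn⟩ := FiniteField.card F 2
    rw [hn] at hodd
    exact (Nat.not_even_iff_odd.2 hodd) ((Nat.even_pow.2 ⟨even_two, n.2.ne'⟩))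
  have hcard : (rts (Matrix.toLin' g.1 : (Fin 4 ⊕ Fin 4 → F) →ₗ[F] (Fin 4 ⊕ Fin 4 → F))).card = 8 := by
    rw [card_rts, Module.finrank_fintype_fun_eq_card]
    rfl
  have hq0 : 0 < Fintype.card F := Fintype.card_pos
  have hpowM : ∀ (N : ℕ) (a : F), (Matrix.toLin' g.1 : (Fin 4 ⊕ Fin 4 → F) →ₗ[F] (Fin 4 ⊕ Fin 4 → F)) ^ N =
      algebraMap F (Module.End F _) a → (g ^ N).1 = a • (1 : Matrix _ _ F) := by
    intro N a h
    have h1 : Matrix.toLin' (g ^ N).1 = Matrix.toLin' (a • (1 : Matrix (Fin 4 ⊕ Fin 4) (Fin 4 ⊕ Fin 4) F)) := by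
      rw [SubmonoidClass.coe_pow, Matrix.toLin'_pow, h, map_smul, Matrix.toLin'_one]
      rfl
    exact Matrix.toLin'.injective h1
  rcases enum (frob_inj F) hq0 hp.out hp2 hodd (inv0_sp g) (Or.inl hcard) with ⟨μ, hμ, hR⟩ | ⟨N, c, hB, hI⟩
  · -- one orbit
    have hall : (rts (Matrix.toLin' g.1 : (Fin 4 ⊕ Fin 4 → F) →ₗ[F] (Fin 4 ⊕ Fin 4 → F))) =
        (orb (Fintype.card F) μ 4).val := by
      rw [← hR]
      symm
      apply Multiset.eq_of_le_of_card_le (Multiset.filter_le _ _)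
      rw [hR, hcard, Finset.card_val, card_orb (frob_inj F) hμ]
    have key : ∀ N : ℕ, 0 < N → μ ^ (2 * N) = 1 → orderOf (g : Cfsg.PSp 4 F) ∣ N := by
      intro N hN h1
      have h2 : μ ^ N = 1 ∨ μ ^ N = -1 := by
        have : μ ^ N * μ ^ N = 1 := by rw [← pow_add, ← two_mul, h1]
        exact mul_self_eq_one_iff.1 this
      obtain ⟨a, ha, ha1⟩ : ∃ a : F, (a = 1 ∨ a = -1) ∧ μ ^ N = algebraMap F (AlgebraicClosure F) a := by
        rcases h2 with h2 | h2
        · exact ⟨1, Or.inl rfl, by rw [h2, map_one]⟩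
        · exact ⟨-1, Or.inr rfl, by rw [h2, map_neg, map_one]⟩
      have hinv : (algebraMap F (AlgebraicClosure F) a)⁻¹ = algebraMap F (AlgebraicClosure F) a := by
        rcases ha with rfl | rfl <;> simp
      have hpow : ∀ i : ℕ, (algebraMap F (AlgebraicClosure F) a) ^ (Fintype.card F) ^ i =
          algebraMap F (AlgebraicClosure F) a := by
        intro i
        rcases ha with rfl | rfl
        · simp
        · rw [map_neg, map_one, (hodd.pow).neg_one_pow]
      have h3 := pow_eq_of_simple (g := Matrix.toLin' g.1) hN a (fun x => by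
        rw [hall]
        exact Multiset.nodup_iff_count_le_one.1 (orb (Fintype.card F) μ 4).nodup x) (fun x hx => by
        rw [hall] at hx
        obtain ⟨i, -, rfl | rfl⟩ := mem_orb.1 hx
        · rw [← pow_mul, mul_comm, pow_mul, ha1, hpow]
        · rw [inv_pow, ← pow_mul, mul_comm, pow_mul, ha1, hpow, hinv])
      apply orderOf_psp_dvd
      have h4 := hpowM N a h3
      rcases ha with rfl | rfl
      · left; rw [h4, one_smul]
      · right; rw [h4, neg_smul, one_smul]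
    have h8 := mm_mod hodd
    rcases hμ.eq with h1 | h1
    · right; left
      rw [half_eq hodd]
      have h2 := dvd_half hodd
      have h3 : mm (Fintype.card F) - 1 ≠ 0 := by
        have h4 : 3 ≤ Fintype.card F := by
          have := Fintype.one_lt_card (α := F)
          obtain ⟨k, hk⟩ := hodd
          omega
        have := forty_one_le h4
        omega
      apply key _ (Nat.pos_of_ne_zero h3)
      have h4 := two_mm hodd
      have h5 : 2 * (mm (Fintype.card F) - 1) = Fintype.card F ^ 4 - 1 := by omega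
      rw [h5]
      exact pow_sub_of_eq hμ.ne0 (pow_pos hq0 4) h1
    · left
      apply key _ (by omega)
      rw [two_mm hodd]
      exact pow_add_of_eq hμ.ne0 h1
  · have h1 := pow_eq_one_of_bd hB le_rfl
    have h2 : orderOf (g : Cfsg.PSp 4 F) ∣ N * p ^ c := by
      apply orderOf_psp_dvd
      left
      have h3 := hpowM (N * p ^ c) 1 (by rw [h1, map_one])
      rw [h3, one_smul]
    exact hI.dvd h2

end

end Cfsg.Agent.H202.T
end

-- part: H411/Six/UpSp6
section
prune_inst 0x40000040000000000000000000000800000000000000000000000000000008000000008000000000000000000000000000000000000000000000000200000000100400000004000000000000000000000000000000000000000000000000000000000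
set_option linter.all false
open scoped Cfsg.Agent.FastGrp

-- part: H411/Six/Enum6
section
/-!
# Enumeration of the root multisets of isometries in dimension 6 (helper411, block 6)
-/

set_option autoImplicit false
set_option linter.unusedSectionVars false

namespace Cfsg.Agent.H411.Six

open Cfsg.Agent.H160.QRoots Cfsg.Agent.H202.T

section

variable {K : Type*} [Field K] [DecidableEq K] {q : ℕ}

variable {R : Multiset K} (hq : Function.Injective (fun x : K => x ^ q)) (hq0 : 0 < q)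
include hq hq0

/-- six elements, none equal to its inverse -/
theorem three6 (h : _root_.Cfsg.Agent.H160.QRoots.Inv q R) (hc : R.card = 6) :
    (∃ μ, IsMin q μ 3 ∧ R = (orb q μ 3).val) ∨ (∀ N, q ^ 2 + 1 ∣ N → q - 1 ∣ N → Bd R 1 N) ∨
      (∀ N, q ^ 2 + 1 ∣ N → q + 1 ∣ N → Bd R 1 N) ∨ Bd R 2 (q ^ 2 - 1) ∨ Bd R 3 (q - 1) ∨ Bd R 3 (q + 1) := by
  by_cases hbig : ∃ μ ∈ R, ∃ d, IsMin q μ d ∧ 3 ≤ d
  · obtain ⟨μ, hμ, d, hd, h3d⟩ := hbig
    have h1 := d_le hq h hd hμ
    obtain rfl : d = 3 := by omega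
    obtain ⟨R', h3, h4, h5, h6, h7⟩ := peel hq h hd
    have h8 : 1 ≤ R.count μ := Multiset.one_le_count_iff_mem.2 hμ
    have h9 : R.count μ = 1 := by omega
    have hR' : R'.card = 0 := by omega
    rw [Multiset.card_eq_zero] at hR'
    rw [h9, one_nsmul, hR', add_zero] at h3
    exact Or.inl ⟨μ, hd, h3⟩
  · push Not at hbig
    have hd2 : ∀ x ∈ R, ∀ d, IsMin q x d → d ≤ 2 := fun x hx d hd => by
      have := hbig x hx d hd; omega
    right
    rcases small_cases hq hq0 h hd2 with ⟨μ, hμ, hd, h1⟩ | h1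
    · obtain ⟨R', h3, h4, h5, h6, h7⟩ := peel hq h hd
      have h8 : 1 ≤ R.count μ := Multiset.one_le_count_iff_mem.2 hμ
      have h9 : R.count μ = 1 := by omega
      have hR' : R'.card = 2 := by omega
      have hcnt : ∀ x, R.count x ≤ 1 := by
        intro x
        by_cases hx : x ∈ R
        · by_cases hxo : x ∈ orb q μ 2
          · rw [count_orb h hxo, h9]
          · rw [← h6 x ((h5 x).2 ⟨hx, hxo⟩)]
            have := cnt_le hq h4 x
            omega
        · rw [Multiset.count_eq_zero_of_notMem hx]; omega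
      rcases one hq hq0 h4 hR' with h10 | h10
      · left
        intro N hN1 hN2
        refine ⟨hcnt, fun x hx => ?_⟩
        by_cases hxo : x ∈ orb q μ 2
        · exact pow_dvd (ex_orb hxo h1) hN1
        · exact pow_dvd (h10.ex x ((h5 x).2 ⟨hx, hxo⟩)) hN2
      · right; left
        intro N hN1 hN2
        refine ⟨hcnt, fun x hx => ?_⟩
        by_cases hxo : x ∈ orb q μ 2
        · exact pow_dvd (ex_orb hxo h1) hN1
        · exact pow_dvd (h10.ex x ((h5 x).2 ⟨hx, hxo⟩)) hN2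
    · right; right
      by_cases hc2 : ∀ x, R.count x ≤ 2
      · exact Or.inl ⟨hc2, h1⟩
      · right
        push Not at hc2
        obtain ⟨μ, hμ2⟩ := hc2
        have hμ : μ ∈ R := Multiset.one_le_count_iff_mem.1 (by omega)
        obtain ⟨d, hd⟩ := exists_isMin hq h hμ
        have h2 := dm_le hq h hd
        have h3 := hd.pos
        have h4 : d = 1 := by nlinarith
        subst h4
        have h5 : R.count μ = 3 := by omega
        obtain ⟨R', k3, k4, k5, k6, k7⟩ := peel hq h hd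
        have hR' : R'.card = 0 := by omega
        rw [Multiset.card_eq_zero] at hR'
        have hmem : ∀ x ∈ R, x ∈ orb q μ 1 := by
          intro x hx
          by_contra hno
          have := (k5 x).2 ⟨hx, hno⟩
          rw [hR'] at this
          exact Multiset.notMem_zero x this
        have hcnt : ∀ x, R.count x ≤ 3 := fun x => by have := cnt_le hq h x; omega
        rcases hd.pow hq0 with h9 | h9
        · exact Or.inl ⟨hcnt, fun x hx => ex_orb (hmem x hx) (by rwa [_root_.pow_one] at h9)⟩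
        · exact Or.inr ⟨hcnt, fun x hx => ex_orb (hmem x hx) (by rwa [_root_.pow_one] at h9)⟩

omit hq hq0 in
/-- adding the elements equal to their inverses, characteristic 2 -/
theorem comb2 [CharP K 2] (h : Inv0 q R) {M N P : ℕ} (h0 : Bd (R.filter fun x => x ≠ x⁻¹) M N) (hM : M ≤ P)
    (hP : R.card ≤ P + (R.filter fun x => x ≠ x⁻¹).card) : Bd R P N where
  cnt x := by
    by_cases hx : x ≠ x⁻¹
    · have := h0.cnt x
      rw [Multiset.count_filter_of_pos (p := fun x => x ≠ x⁻¹) hx] at this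
      omega
    · have h1 := congrArg Multiset.card (Multiset.filter_add_not (fun x => x ≠ x⁻¹) R)
      rw [Multiset.card_add] at h1
      have h2 : R.count x = (R.filter fun x => ¬ x ≠ x⁻¹).count x :=
        (Multiset.count_filter_of_pos (p := fun x => ¬ x ≠ x⁻¹) hx).symm
      have h3 := Multiset.count_le_card x (R.filter fun x => ¬ x ≠ x⁻¹)
      omega
  ex x hx := by
    by_cases h1 : x ≠ x⁻¹
    · exact h0.ex x (Multiset.mem_filter.2 ⟨hx, h1⟩)
    · rw [ne_eq, not_not] at h1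
      have h2 : x ^ 2 = 1 := by
        rw [pow_two]
        nth_rw 2 [h1]
        exact mul_inv_cancel₀ (h.ne0 x hx)
      have h3 : (x - 1) ^ 2 = 0 := by
        rw [sub_pow_char, h2, one_pow, sub_self]
      have h4 : x = 1 := sub_eq_zero.1 (pow_eq_zero_iff (two_ne_zero) |>.1 h3)
      rw [h4, one_pow]

/-- **Enumeration, even characteristic.** -/
theorem enum_even [CharP K 2] (h : Inv0 q R) (hc : R.card = 6) :
    ∃ N c : ℕ, Bd R (2 ^ c) N ∧ (N * 2 ^ c ∣ q ^ 3 - 1 ∨ N * 2 ^ c ∣ q ^ 3 + 1 ∨ N * 2 ^ c ∣ (q ^ 2 + 1) * (q - 1) ∨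
      N * 2 ^ c ∣ (q ^ 2 + 1) * (q + 1) ∨ N * 2 ^ c ∣ 2 * (q ^ 2 + 1) ∨ N * 2 ^ c ∣ 2 * (q ^ 2 - 1) ∨
      N * 2 ^ c ∣ 4 * (q + 1) ∨ N * 2 ^ c ∣ 4 * (q - 1) ∨ N * 2 ^ c ∣ 8) := by
  have hI := Inv0.filter hq hq0 h
  have hle : (R.filter fun x => x ≠ x⁻¹).card ≤ R.card := Multiset.card_le_card (Multiset.filter_le _ _)
  have hev := even_card hq hq0 _ _ rfl hI
  obtain ⟨n, hn⟩ : ∃ n, (R.filter fun x => x ≠ x⁻¹).card = n := ⟨_, rfl⟩
  rw [hn, hc] at hle
  rw [hn] at hev
  have hcases : n = 0 ∨ n = 2 ∨ n = 4 ∨ n = 6 := by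
    obtain ⟨k, hk⟩ := hev
    omega
  rcases hcases with rfl | rfl | rfl | rfl
  · rw [Multiset.card_eq_zero] at hn
    have hB : Bd (R.filter fun x => x ≠ x⁻¹) 0 1 := by
      rw [hn]
      exact ⟨fun x => by simp, fun x hx => absurd hx (Multiset.notMem_zero x)⟩
    exact ⟨1, 3, comb2 h hB (by norm_num) (by rw [hn, hc]; norm_num),
      Or.inr (Or.inr (Or.inr (Or.inr (Or.inr (Or.inr (Or.inr (Or.inr (by norm_num))))))))⟩
  · rcases one hq hq0 hI hn with hB | hB
    · exact ⟨q - 1, 2, comb2 h hB (by norm_num) (by rw [hn, hc]; norm_num),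
        Or.inr (Or.inr (Or.inr (Or.inr (Or.inr (Or.inr (Or.inr (Or.inl (by rw [mul_comm]; norm_num))))))))⟩
    · exact ⟨q + 1, 2, comb2 h hB (by norm_num) (by rw [hn, hc]; norm_num),
        Or.inr (Or.inr (Or.inr (Or.inr (Or.inr (Or.inr (Or.inl (by rw [mul_comm]; norm_num)))))))⟩
  · rcases two hq hq0 hI hn with hB | hB
    · exact ⟨q ^ 2 + 1, 1, comb2 h hB (by norm_num) (by rw [hn, hc]; norm_num),
        Or.inr (Or.inr (Or.inr (Or.inr (Or.inl (by rw [mul_comm]; norm_num)))))⟩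
    · exact ⟨q ^ 2 - 1, 1, comb2 h hB (by norm_num) (by rw [hn, hc]; norm_num),
        Or.inr (Or.inr (Or.inr (Or.inr (Or.inr (Or.inl (by rw [mul_comm]; norm_num))))))⟩
  · rcases three6 hq hq0 hI hn with ⟨μ, hμ, hR⟩ | hB | hB | hB | hB | hB
    · have hcnt : ∀ x, (R.filter fun x => x ≠ x⁻¹).count x ≤ 1 := fun x => by
        rw [hR]
        exact Multiset.nodup_iff_count_le_one.1 (orb q μ 3).nodup x
      have hex : ∀ N, μ ^ N = 1 → Bd (R.filter fun x => x ≠ x⁻¹) 1 N := fun N hN =>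
        ⟨hcnt, fun x hx => ex_orb (by rw [hR] at hx; exact hx) hN⟩
      rcases hμ.pow hq0 with h1 | h1
      · exact ⟨_, 0, comb2 h (hex _ h1) (by norm_num) (by rw [hn, hc]; norm_num), Or.inl (by simp)⟩
      · exact ⟨_, 0, comb2 h (hex _ h1) (by norm_num) (by rw [hn, hc]; norm_num), Or.inr (Or.inl (by simp))⟩
    · exact ⟨(q ^ 2 + 1) * (q - 1), 0, comb2 h (hB _ (Dvd.intro _ rfl) (Dvd.intro_left _ rfl)) (by norm_num)
        (by rw [hn, hc]; norm_num), Or.inr (Or.inr (Or.inl (by simp)))⟩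
    · exact ⟨(q ^ 2 + 1) * (q + 1), 0, comb2 h (hB _ (Dvd.intro _ rfl) (Dvd.intro_left _ rfl)) (by norm_num)
        (by rw [hn, hc]; norm_num), Or.inr (Or.inr (Or.inr (Or.inl (by simp))))⟩
    · exact ⟨q ^ 2 - 1, 1, comb2 h hB (by norm_num) (by rw [hn, hc]; norm_num),
        Or.inr (Or.inr (Or.inr (Or.inr (Or.inr (Or.inl (by rw [mul_comm]; norm_num))))))⟩
    · exact ⟨q - 1, 2, comb2 h hB (by norm_num) (by rw [hn, hc]; norm_num),
        Or.inr (Or.inr (Or.inr (Or.inr (Or.inr (Or.inr (Or.inr (Or.inl (by rw [mul_comm]; norm_num))))))))⟩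
    · exact ⟨q + 1, 2, comb2 h hB (by norm_num) (by rw [hn, hc]; norm_num),
        Or.inr (Or.inr (Or.inr (Or.inr (Or.inr (Or.inr (Or.inl (by rw [mul_comm]; norm_num)))))))⟩

/-- **Enumeration, characteristic 5.** -/
theorem enum_five (hqo : Odd q) (h : Inv0 q R) (hc : R.card = 6) :
    (∃ μ, IsMin q μ 3 ∧ R = (orb q μ 3).val) ∨ (∃ ε : K, ε * ε = 1 ∧ R = Multiset.replicate 6 ε) ∨
    ∃ N c : ℕ, Bd R (5 ^ c) N ∧ (N * 5 ^ c ∣ (q ^ 2 + 1) * ((q - 1) / 2) ∨
      N * 5 ^ c ∣ (q ^ 2 + 1) * ((q + 1) / 2) ∨ N * 5 ^ c ∣ 5 * (q ^ 2 + 1) ∨ N * 5 ^ c ∣ 5 * (q ^ 2 - 1)) := by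
  have hI := Inv0.filter hq hq0 h
  have hle : (R.filter fun x => x ≠ x⁻¹).card ≤ R.card := Multiset.card_le_card (Multiset.filter_le _ _)
  have hev := even_card hq hq0 _ _ rfl hI
  obtain ⟨n, hn⟩ : ∃ n, (R.filter fun x => x ≠ x⁻¹).card = n := ⟨_, rfl⟩
  rw [hn, hc] at hle
  rw [hn] at hev
  have hcases : n = 0 ∨ n = 2 ∨ n = 4 ∨ n = 6 := by
    obtain ⟨k, hk⟩ := hev
    omega
  have ev2 : Even (q ^ 2 + 1) := hqo.pow.add_one
  have ev2' : Even (q ^ 2 - 1) := Nat.Odd.sub_odd hqo.pow odd_one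
  have evp : Even (q + 1) := hqo.add_one
  have evm : Even (q - 1) := Nat.Odd.sub_odd hqo odd_one
  have dp2 : q + 1 ∣ q ^ 2 - 1 := add_one_dvd_sq q
  have dm2 : q - 1 ∣ q ^ 2 - 1 := H160.QRoots.sub_one_dvd q 2
  have w5 : ∀ A B : ℕ, A ∣ B → A * 5 ^ 1 ∣ 5 * B := fun A B hAB => by
    rw [pow_one, mul_comm]; exact Nat.mul_dvd_mul_left _ hAB
  rcases hcases with rfl | rfl | rfl | rfl
  · right
    rw [Multiset.card_eq_zero] at hn
    by_cases hc5 : ∀ x, R.count x ≤ 5
    · right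
      have hB : Bd (R.filter fun x => x ≠ x⁻¹) 0 2 := by
        rw [hn]
        exact ⟨fun x => by simp, fun x hx => absurd hx (Multiset.notMem_zero x)⟩
      have hB2 := comb (P := 6) h hB even_two (by norm_num) (by rw [hn, hc]; norm_num)
      exact ⟨2, 1, ⟨fun x => by simpa using hc5 x, hB2.ex⟩, Or.inr (Or.inr (Or.inr (w5 _ _ ev2'.two_dvd)))⟩
    · left
      push Not at hc5
      obtain ⟨ε, hε⟩ := hc5
      have h6 : R.count ε = R.card := le_antisymm (Multiset.count_le_card _ _) (by omega)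
      have hR : R = Multiset.replicate 6 ε := by
        rw [Multiset.eq_replicate]
        exact ⟨hc, fun b hb => (Multiset.count_eq_card.1 h6 b hb).symm⟩
      refine ⟨ε, ?_, hR⟩
      have hmem : ε ∈ R := Multiset.one_le_count_iff_mem.1 (by omega)
      have hinv : ε = ε⁻¹ := by
        by_contra hne
        have : ε ∈ R.filter fun x => x ≠ x⁻¹ := Multiset.mem_filter.2 ⟨hmem, hne⟩
        rw [hn] at this
        exact Multiset.notMem_zero _ this
      nth_rw 2 [hinv]
      exact mul_inv_cancel₀ (h.ne0 ε hmem)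
  · right; right
    rcases one hq hq0 hI hn with hB | hB
    · exact ⟨q - 1, 1, comb h hB evm (by norm_num) (by rw [hn, hc]; norm_num), Or.inr (Or.inr (Or.inr (w5 _ _ dm2)))⟩
    · exact ⟨q + 1, 1, comb h hB evp (by norm_num) (by rw [hn, hc]; norm_num), Or.inr (Or.inr (Or.inr (w5 _ _ dp2)))⟩
  · right; right
    rcases two hq hq0 hI hn with hB | hB
    · exact ⟨q ^ 2 + 1, 1, comb h hB ev2 (by norm_num) (by rw [hn, hc]; norm_num),
        Or.inr (Or.inr (Or.inl (w5 _ _ dvd_rfl)))⟩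
    · exact ⟨q ^ 2 - 1, 1, comb h hB ev2' (by norm_num) (by rw [hn, hc]; norm_num),
        Or.inr (Or.inr (Or.inr (w5 _ _ dvd_rfl)))⟩
  · obtain ⟨e, he⟩ := hqo
    rcases three6 hq hq0 hI hn with ⟨μ, hμ, hR⟩ | hB | hB | hB | hB | hB
    · left
      refine ⟨μ, hμ, ?_⟩
      rw [← hR]
      symm
      apply Multiset.eq_of_le_of_card_le (Multiset.filter_le _ _)
      rw [hn, hc]
    · exact Or.inr (Or.inr ⟨_, 0, comb h (hB ((q ^ 2 + 1) * ((q - 1) / 2)) (Dvd.intro _ rfl) (dvd_sub_half he))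
        (ev2.mul_right _) (by norm_num) (by rw [hn, hc]; norm_num), Or.inl (by simp)⟩)
    · exact Or.inr (Or.inr ⟨_, 0, comb h (hB ((q ^ 2 + 1) * ((q + 1) / 2)) (Dvd.intro _ rfl) (dvd_add_half he))
        (ev2.mul_right _) (by norm_num) (by rw [hn, hc]; norm_num), Or.inr (Or.inl (by simp))⟩)
    · exact Or.inr (Or.inr ⟨q ^ 2 - 1, 1, comb h hB ev2' (by norm_num) (by rw [hn, hc]; norm_num),
        Or.inr (Or.inr (Or.inr (w5 _ _ dvd_rfl)))⟩)
    · exact Or.inr (Or.inr ⟨q - 1, 1, comb h hB evm (by norm_num) (by rw [hn, hc]; norm_num),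
        Or.inr (Or.inr (Or.inr (w5 _ _ dm2)))⟩)
    · exact Or.inr (Or.inr ⟨q + 1, 1, comb h hB evp (by norm_num) (by rw [hn, hc]; norm_num),
        Or.inr (Or.inr (Or.inr (w5 _ _ dp2)))⟩)

end

end Cfsg.Agent.H411.Six
end

-- part: H411/Six/UpSp6
section
/-!
# Block 6: upper bounds for the element orders of `PSp₆(q)`, `q` a power of 5 or of 2 (helper411)
-/

set_option autoImplicit false
set_option linter.unusedSectionVars false

namespace Cfsg.Agent.H411.Six

open Module Polynomial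
open Cfsg.Agent.H160.QRoots Cfsg.Agent.H160.QChar Cfsg.Agent.H202.T

section

open Matrix

variable {F : Type*} [Field F] {n : ℕ}

theorem card_rts_sp (g : Matrix.symplecticGroup (Fin 3) F) :
    (rts (Matrix.toLin' g.1 : (Fin 3 ⊕ Fin 3 → F) →ₗ[F] (Fin 3 ⊕ Fin 3 → F))).card = 6 := by
  rw [card_rts, Module.finrank_fintype_fun_eq_card]
  rfl

theorem pow_eq_smul (g : Matrix.symplecticGroup (Fin n) F) (N : ℕ) (a : F)
    (h : (Matrix.toLin' g.1 : (Fin n ⊕ Fin n → F) →ₗ[F] (Fin n ⊕ Fin n → F)) ^ N = algebraMap F (Module.End F _) a) :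
    (g ^ N).1 = a • (1 : Matrix _ _ F) := by
  have h1 : Matrix.toLin' (g ^ N).1 = Matrix.toLin' (a • (1 : Matrix (Fin n ⊕ Fin n) (Fin n ⊕ Fin n) F)) := by
    rw [SubmonoidClass.coe_pow, Matrix.toLin'_pow, h, map_smul, Matrix.toLin'_one]
    rfl
  exact Matrix.toLin'.injective h1

/-- the order of the image in `PSp` from a bound for the roots -/
theorem orderOf_dvd_of_bd {p : ℕ} [hp : Fact p.Prime] [CharP F p] (g : Matrix.symplecticGroup (Fin n) F) {N c : ℕ}
    (hB : ∀ x, open Classical in (rts (Matrix.toLin' g.1 : (Fin n ⊕ Fin n → F) →ₗ[F] (Fin n ⊕ Fin n → F))).count x ≤ p ^ c)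
    (hE : ∀ x ∈ rts (Matrix.toLin' g.1 : (Fin n ⊕ Fin n → F) →ₗ[F] (Fin n ⊕ Fin n → F)), x ^ N = 1) :
    orderOf (g : Cfsg.PSp n F) ∣ N * p ^ c := by
  classical
  have h1 := pow_eq_one_of_bd (p := p) (c := c) (M := p ^ c) (g := Matrix.toLin' g.1) (N := N)
    ⟨fun x => by convert hB x, hE⟩ le_rfl
  apply orderOf_psp_dvd
  left
  have h3 := pow_eq_smul g (N * p ^ c) 1 (by rw [h1, map_one])
  rw [h3, one_smul]

/-- **Element orders of `PSp₆(q)`, `q = 2 ^ m`, refined.** -/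
theorem ub_two' [Fintype F] [CharP F 2] (x : Cfsg.PSp 3 F) :
    orderOf x ∣ Fintype.card F ^ 3 - 1 ∨ orderOf x ∣ Fintype.card F ^ 3 + 1 ∨
      orderOf x ∣ (Fintype.card F ^ 2 + 1) * (Fintype.card F - 1) ∨
      orderOf x ∣ (Fintype.card F ^ 2 + 1) * (Fintype.card F + 1) ∨ orderOf x ∣ 2 * (Fintype.card F ^ 2 + 1) ∨
      orderOf x ∣ 2 * (Fintype.card F ^ 2 - 1) ∨ orderOf x ∣ 4 * (Fintype.card F + 1) ∨
      orderOf x ∣ 4 * (Fintype.card F - 1) ∨ orderOf x ∣ 8 := by
  classical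
  have : Fact (Nat.Prime 2) := ⟨Nat.prime_two⟩
  have : CharP (AlgebraicClosure F) 2 := charP_of_injective_algebraMap (algebraMap F (AlgebraicClosure F)).injective 2
  obtain ⟨g, rfl⟩ := QuotientGroup.mk_surjective x
  obtain ⟨N, c, hB, hN⟩ := enum_even (frob_inj F) Fintype.card_pos (inv0_sp g) (card_rts_sp g)
  have h := orderOf_dvd_of_bd g (N := N) (c := c) hB.cnt hB.ex
  rcases hN with h1 | h1 | h1 | h1 | h1 | h1 | h1 | h1 | h1
  · exact Or.inl (h.trans h1)
  · exact Or.inr (Or.inl (h.trans h1))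
  · exact Or.inr (Or.inr (Or.inl (h.trans h1)))
  · exact Or.inr (Or.inr (Or.inr (Or.inl (h.trans h1))))
  · exact Or.inr (Or.inr (Or.inr (Or.inr (Or.inl (h.trans h1)))))
  · exact Or.inr (Or.inr (Or.inr (Or.inr (Or.inr (Or.inl (h.trans h1))))))
  · exact Or.inr (Or.inr (Or.inr (Or.inr (Or.inr (Or.inr (Or.inl (h.trans h1)))))))
  · exact Or.inr (Or.inr (Or.inr (Or.inr (Or.inr (Or.inr (Or.inr (Or.inl (h.trans h1))))))))
  · exact Or.inr (Or.inr (Or.inr (Or.inr (Or.inr (Or.inr (Or.inr (Or.inr (h.trans h1))))))))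

theorem charP_of_card [Fintype F] {p m : ℕ} (hp : p.Prime) (_hm : 1 ≤ m) (hF : Fintype.card F = p ^ m) : CharP F p := by
  obtain ⟨r, hr⟩ := CharP.exists F
  obtain ⟨k, hk, hc⟩ := FiniteField.card F r
  have h1 : r = p := by
    have h2 : r ∣ p ^ m := by rw [← hF, hc]; exact dvd_pow_self _ k.2.ne'
    exact (Nat.prime_dvd_prime_iff_eq hk hp).1 (hk.dvd_of_dvd_pow h2)
  rwa [h1] at hr

theorem sq_sub (q : ℕ) : q ^ 2 - 1 = (q + 1) * (q - 1) := by
  have := Nat.sq_sub_sq q 1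
  simpa only [_root_.one_pow] using this

theorem four_sub (q : ℕ) : q ^ 4 - 1 = (q ^ 2 + 1) * ((q + 1) * (q - 1)) := by
  have := Nat.sq_sub_sq (q ^ 2) 1
  rw [← pow_mul] at this
  rw [← sq_sub]
  simpa only [_root_.Nat.reduceMul, _root_.one_pow] using this

/-- **L7** -/
theorem ub_two [Fintype F] {m : ℕ} (hm : 2 ≤ m) (hF : Fintype.card F = 2 ^ m) (g : Cfsg.PSp 3 F) :
    orderOf g ∣ Fintype.card F ^ 3 - 1 ∨ orderOf g ∣ Fintype.card F ^ 3 + 1 ∨
      orderOf g ∣ Fintype.card F ^ 4 - 1 ∨ orderOf g ∣ 2 * (Fintype.card F ^ 2 + 1) ∨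
      orderOf g ∣ 2 * (Fintype.card F ^ 2 - 1) ∨ orderOf g ∣ 4 * (Fintype.card F + 1) ∨
      orderOf g ∣ 4 * (Fintype.card F - 1) ∨ orderOf g ∣ 8 := by
  have := charP_of_card Nat.prime_two (by omega) hF
  rcases ub_two' g with h1 | h1 | h1 | h1 | h1 | h1 | h1 | h1 | h1
  · exact Or.inl h1
  · exact Or.inr (Or.inl h1)
  · exact Or.inr (Or.inr (Or.inl (h1.trans (by
      rw [four_sub]; exact Nat.mul_dvd_mul_left _ (Dvd.intro_left _ rfl)))))
  · exact Or.inr (Or.inr (Or.inl (h1.trans (by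
      rw [four_sub]; exact Nat.mul_dvd_mul_left _ (Dvd.intro _ rfl)))))
  · exact Or.inr (Or.inr (Or.inr (Or.inl h1)))
  · exact Or.inr (Or.inr (Or.inr (Or.inr (Or.inl h1))))
  · exact Or.inr (Or.inr (Or.inr (Or.inr (Or.inr (Or.inl h1)))))
  · exact Or.inr (Or.inr (Or.inr (Or.inr (Or.inr (Or.inr (Or.inl h1))))))
  · exact Or.inr (Or.inr (Or.inr (Or.inr (Or.inr (Or.inr (Or.inr h1))))))

/-- **L7, second part** -/
theorem ne_two [Fintype F] {m : ℕ} (hm : 2 ≤ m) (hF : Fintype.card F = 2 ^ m) (g : Cfsg.PSp 3 F) :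
    orderOf g ≠ Fintype.card F ^ 4 - 1 := by
  have := charP_of_card Nat.prime_two (by omega) hF
  have h4 : 4 ≤ Fintype.card F := by
    rw [hF]
    calc 4 = 2 ^ 2 := by norm_num
      _ ≤ 2 ^ m := Nat.pow_le_pow_right (by norm_num) hm
  intro hne
  have hub := ub_two' g
  rw [hne] at hub
  clear hne hF
  generalize Fintype.card F = q at h4 hub
  obtain ⟨t, rfl⟩ := Nat.exists_eq_add_of_le h4
  have e4 : (4 + t) ^ 4 - 1 = t ^ 4 + 16 * t ^ 3 + 96 * t ^ 2 + 256 * t + 255 := by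
    have : (4 + t) ^ 4 = t ^ 4 + 16 * t ^ 3 + 96 * t ^ 2 + 256 * t + 255 + 1 := by ring
    omega
  have e3 : (4 + t) ^ 3 - 1 = t ^ 3 + 12 * t ^ 2 + 48 * t + 63 := by
    have : (4 + t) ^ 3 = t ^ 3 + 12 * t ^ 2 + 48 * t + 63 + 1 := by ring
    omega
  have e3' : (4 + t) ^ 3 + 1 = t ^ 3 + 12 * t ^ 2 + 48 * t + 65 := by ring
  have e2 : (4 + t) ^ 2 - 1 = t ^ 2 + 8 * t + 15 := by
    have : (4 + t) ^ 2 = t ^ 2 + 8 * t + 15 + 1 := by ring
    omega
  have e2' : (4 + t) ^ 2 + 1 = t ^ 2 + 8 * t + 17 := by ring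
  have e1 : 4 + t - 1 = t + 3 := by omega
  have e1' : 4 + t + 1 = t + 5 := by omega
  rw [e4, e3, e3', e2, e2', e1, e1'] at hub
  have z2 := Nat.zero_le (t ^ 2)
  have z3 := Nat.zero_le (t ^ 3)
  have z4 := Nat.zero_le (t ^ 4)
  have le : ∀ A : ℕ, 0 < A → t ^ 4 + 16 * t ^ 3 + 96 * t ^ 2 + 256 * t + 255 ∣ A →
      t ^ 4 + 16 * t ^ 3 + 96 * t ^ 2 + 256 * t + 255 ≤ A := fun A hA h => Nat.le_of_dvd hA h
  rcases hub with h1 | h1 | h1 | h1 | h1 | h1 | h1 | h1 | h1 <;> have h2 := le _ (by (clear * -; positivity)) h1 <;> linarith only [z3, z4, h2, _root_.sq_nonneg (↑t : ℤ), _root_.Nat.cast_nonneg (α := ℤ) (t)]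

/-- **L1, refined** -/
theorem ub_five' [Fintype F] [CharP F 5] (x : Cfsg.PSp 3 F) :
    orderOf x ∣ (Fintype.card F ^ 3 - 1) / 2 ∨ orderOf x ∣ (Fintype.card F ^ 3 + 1) / 2 ∨
      orderOf x ∣ (Fintype.card F ^ 2 + 1) * ((Fintype.card F - 1) / 2) ∨
      orderOf x ∣ (Fintype.card F ^ 2 + 1) * ((Fintype.card F + 1) / 2) ∨
      orderOf x ∣ 5 * (Fintype.card F ^ 2 + 1) ∨ orderOf x ∣ 5 * (Fintype.card F ^ 2 - 1) ∨ orderOf x ∣ 25 := by
  classical
  have : Fact (Nat.Prime 5) := ⟨Nat.prime_five⟩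
  have : CharP (AlgebraicClosure F) 5 := charP_of_injective_algebraMap (algebraMap F (AlgebraicClosure F)).injective 5
  have hodd : Odd (Fintype.card F) := by
    obtain ⟨k, -, hc⟩ := FiniteField.card F 5
    rw [hc]
    exact Odd.pow (by decide)
  have hq0 : 0 < Fintype.card F := Fintype.card_pos
  have hq1 : 1 < Fintype.card F := Fintype.one_lt_card
  obtain ⟨g, rfl⟩ := QuotientGroup.mk_surjective x
  rcases enum_five (frob_inj F) hq0 hodd (inv0_sp g) (card_rts_sp g) with ⟨μ, hμ, hR⟩ | ⟨ε, hε, hR⟩ | ⟨N, c, hB, hN⟩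
  · have key : ∀ N : ℕ, 0 < N → μ ^ (2 * N) = 1 → orderOf (g : Cfsg.PSp 3 F) ∣ N := by
      intro N hN h1
      have h2 : μ ^ N = 1 ∨ μ ^ N = -1 := by
        have : μ ^ N * μ ^ N = 1 := by rw [← pow_add, ← two_mul, h1]
        exact mul_self_eq_one_iff.1 this
      obtain ⟨a, ha, ha1⟩ : ∃ a : F, (a = 1 ∨ a = -1) ∧ μ ^ N = algebraMap F (AlgebraicClosure F) a := by
        rcases h2 with h2 | h2
        · exact ⟨1, Or.inl rfl, by rw [h2, map_one]⟩
        · exact ⟨-1, Or.inr rfl, by rw [h2, map_neg, map_one]⟩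
      have hinv : (algebraMap F (AlgebraicClosure F) a)⁻¹ = algebraMap F (AlgebraicClosure F) a := by
        rcases ha with rfl | rfl <;> simp only [_root_.map_one, _root_.inv_one, _root_.map_neg, _root_.inv_neg]
      have hpow : ∀ i : ℕ, (algebraMap F (AlgebraicClosure F) a) ^ (Fintype.card F) ^ i =
          algebraMap F (AlgebraicClosure F) a := by
        intro i
        rcases ha with rfl | rfl
        · simp
        · rw [map_neg, map_one, (hodd.pow).neg_one_pow]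
      have h3 := pow_eq_of_simple (g := Matrix.toLin' g.1) hN a (fun x => by
        rw [hR]
        exact Multiset.nodup_iff_count_le_one.1 (orb (Fintype.card F) μ 3).nodup x) (fun x hx => by
        rw [hR] at hx
        obtain ⟨i, -, rfl | rfl⟩ := mem_orb.1 hx
        · rw [← pow_mul, mul_comm, pow_mul, ha1, hpow]
        · rw [inv_pow, ← pow_mul, mul_comm, pow_mul, ha1, hpow, hinv])
      apply orderOf_psp_dvd
      have h4 := pow_eq_smul g N a h3
      rcases ha with rfl | rfl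
      · left; rw [h4, one_smul]
      · right; rw [h4, neg_smul, one_smul]
    have ho3 : Odd (Fintype.card F ^ 3) := hodd.pow
    have h27 : 8 ≤ Fintype.card F ^ 3 := by
      calc 8 = 2 ^ 3 := by norm_num
        _ ≤ Fintype.card F ^ 3 := Nat.pow_le_pow_left hq1 3
    rcases hμ.pow hq0 with h1 | h1
    · left
      apply key _ (by omega)
      rwa [Nat.mul_div_cancel' (Nat.Odd.sub_odd ho3 odd_one).two_dvd]
    · right; left
      apply key _ (by omega)
      rwa [Nat.mul_div_cancel' ho3.add_one.two_dvd]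
  · right; right; right; right; right; right
    obtain ⟨a, ha, ha1⟩ : ∃ a : F, (a = 1 ∨ a = -1) ∧ ε = algebraMap F (AlgebraicClosure F) a := by
      rcases mul_self_eq_one_iff.1 hε with h2 | h2
      · exact ⟨1, Or.inl rfl, by rw [h2, map_one]⟩
      · exact ⟨-1, Or.inr rfl, by rw [h2, map_neg, map_one]⟩
    have h1 : (Matrix.toLin' g.1 : (Fin 3 ⊕ Fin 3 → F) →ₗ[F] (Fin 3 ⊕ Fin 3 → F)).charpoly ∣ X ^ 25 - C a := by
      rw [← Polynomial.map_dvd_map' (algebraMap F (AlgebraicClosure F)), eq_prod, Polynomial.map_sub,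
        Polynomial.map_pow, Polynomial.map_X, Polynomial.map_C, hR, Multiset.map_replicate, Multiset.prod_replicate,
        ← ha1]
      have h2 : (X ^ 25 - C ε : (AlgebraicClosure F)[X]) = (X - C ε) ^ (5 ^ 2) := by
        rw [sub_pow_char_pow, ← C_pow]
        have : ε ^ 5 ^ 2 = ε := by
          rw [show 5 ^ 2 = 2 * 12 + 1 by norm_num, pow_succ, pow_mul, pow_two, hε, one_pow, one_mul]
        rw [this, show 5 ^ 2 = 25 by norm_num]
      rw [h2]
      exact pow_dvd_pow _ (by norm_num)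
    obtain ⟨w, hw⟩ := h1
    have h2 := congrArg (aeval (Matrix.toLin' g.1 : (Fin 3 ⊕ Fin 3 → F) →ₗ[F] (Fin 3 ⊕ Fin 3 → F))) hw
    rw [map_mul, LinearMap.aeval_self_charpoly, zero_mul, map_sub, map_pow, aeval_X, aeval_C, sub_eq_zero] at h2
    apply orderOf_psp_dvd
    have h4 := pow_eq_smul g 25 a h2
    rcases ha with rfl | rfl
    · left; rw [h4, one_smul]
    · right; rw [h4, neg_smul, one_smul]
  · have h := orderOf_dvd_of_bd g (N := N) (c := c) hB.cnt hB.ex
    rcases hN with h1 | h1 | h1 | h1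
    · exact Or.inr (Or.inr (Or.inl (h.trans h1)))
    · exact Or.inr (Or.inr (Or.inr (Or.inl (h.trans h1))))
    · exact Or.inr (Or.inr (Or.inr (Or.inr (Or.inl (h.trans h1)))))
    · exact Or.inr (Or.inr (Or.inr (Or.inr (Or.inr (Or.inl (h.trans h1))))))

theorem odd_card_five [Fintype F] [CharP F 5] : Odd (Fintype.card F) := by
  obtain ⟨k, -, hc⟩ := FiniteField.card F 5
  rw [hc]
  exact Odd.pow (by decide)

theorem five_le_card [Fintype F] [CharP F 5] : 5 ≤ Fintype.card F := by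
  obtain ⟨k, -, hc⟩ := FiniteField.card F 5
  rw [hc]
  exact Nat.le_self_pow k.2.ne' 5

theorem quarter {q : ℕ} (hq : Odd q) : (q ^ 4 - 1) / 4 = (q ^ 2 + 1) * (((q + 1) / 2) * ((q - 1) / 2)) := by
  obtain ⟨e, rfl⟩ := hq
  rw [four_sub, show (2 * e + 1 + 1) / 2 = e + 1 by omega, show (2 * e + 1 - 1) / 2 = e by omega]
  apply Nat.div_eq_of_eq_mul_right (by norm_num)
  rw [show 2 * e + 1 - 1 = 2 * e by omega]
  ring

/-- **L1** -/
theorem ub_five [Fintype F] {m : ℕ} (hm : 1 ≤ m) (hF : Fintype.card F = 5 ^ m) (g : Cfsg.PSp 3 F) :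
    orderOf g ∣ (Fintype.card F ^ 3 - 1) / 2 ∨ orderOf g ∣ (Fintype.card F ^ 3 + 1) / 2 ∨
      orderOf g ∣ (Fintype.card F ^ 4 - 1) / 4 ∨ orderOf g ∣ 5 * (Fintype.card F ^ 2 + 1) ∨
      orderOf g ∣ 5 * (Fintype.card F ^ 2 - 1) ∨ orderOf g ∣ 25 := by
  have := charP_of_card Nat.prime_five hm hF
  have hodd := odd_card_five (F := F)
  rcases ub_five' g with h1 | h1 | h1 | h1 | h1 | h1 | h1
  · exact Or.inl h1
  · exact Or.inr (Or.inl h1)
  · exact Or.inr (Or.inr (Or.inl (h1.trans (by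
      rw [quarter hodd]; exact Nat.mul_dvd_mul_left _ (Dvd.intro_left _ rfl)))))
  · exact Or.inr (Or.inr (Or.inl (h1.trans (by
      rw [quarter hodd]; exact Nat.mul_dvd_mul_left _ (Dvd.intro _ rfl)))))
  · exact Or.inr (Or.inr (Or.inr (Or.inl h1)))
  · exact Or.inr (Or.inr (Or.inr (Or.inr (Or.inl h1))))
  · exact Or.inr (Or.inr (Or.inr (Or.inr (Or.inr h1))))

/-- **L4 (f)** -/
theorem ne_five [Fintype F] {m : ℕ} (hm : 1 ≤ m) (hF : Fintype.card F = 5 ^ m) (g : Cfsg.PSp 3 F) :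
    orderOf g ≠ (Fintype.card F ^ 4 - 1) / 4 := by
  have := charP_of_card Nat.prime_five hm hF
  have hodd := odd_card_five (F := F)
  have h5 := five_le_card (F := F)
  intro hne
  have hub := ub_five' g
  rw [hne, quarter hodd] at hub
  clear hne hF
  generalize Fintype.card F = q at h5 hub hodd
  obtain ⟨e, rfl⟩ := hodd
  obtain ⟨t, rfl⟩ := Nat.exists_eq_add_of_le (show 2 ≤ e by omega)
  have e3 : ((2 * (2 + t) + 1) ^ 3 - 1) / 2 = 4 * t ^ 3 + 30 * t ^ 2 + 75 * t + 62 := by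
    have : (2 * (2 + t) + 1) ^ 3 = 2 * (4 * t ^ 3 + 30 * t ^ 2 + 75 * t + 62) + 1 := by ring
    omega
  have e3' : ((2 * (2 + t) + 1) ^ 3 + 1) / 2 = 4 * t ^ 3 + 30 * t ^ 2 + 75 * t + 63 := by
    have : (2 * (2 + t) + 1) ^ 3 + 1 = 2 * (4 * t ^ 3 + 30 * t ^ 2 + 75 * t + 63) := by ring
    omega
  have e2 : (2 * (2 + t) + 1) ^ 2 - 1 = 4 * t ^ 2 + 20 * t + 24 := by
    have : (2 * (2 + t) + 1) ^ 2 = 4 * t ^ 2 + 20 * t + 24 + 1 := by ring
    omega
  have e2' : (2 * (2 + t) + 1) ^ 2 + 1 = 4 * t ^ 2 + 20 * t + 26 := by ring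
  have e1 : (2 * (2 + t) + 1 - 1) / 2 = t + 2 := by omega
  have e1' : (2 * (2 + t) + 1 + 1) / 2 = t + 3 := by omega
  rw [e3, e3', e2, e2', e1, e1'] at hub
  have z2 := Nat.zero_le (t ^ 2)
  have z3 := Nat.zero_le (t ^ 3)
  have z4 := Nat.zero_le (t ^ 4)
  rcases hub with h1 | h1 | h1 | h1 | h1 | h1 | h1 <;> have h2 := Nat.le_of_dvd (by (clear * -; positivity)) h1 <;> linarith only [z3, z4, h2, _root_.sq_nonneg (↑t : ℤ), _root_.Nat.cast_nonneg (α := ℤ) (t)]

end

end Cfsg.Agent.H411.Six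
end
end
end
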